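import Mathlib

/-!
In a field of characteristic zero containing a square root of five and a root of unity of prime order
at least seven, minus one is a sum of three squares.  The proof is elementary apart from Dirichlet's
theorem: for an auxiliary prime `l ≡ 3 (mod 4)` the polynomial `1 + X + ⋯ + X^(l-1)` is a norm from
`ℚ(√-l)`, so minus one is of the form `u² + l v²` as soon as `l` is a non-residue modulo the order of
the root of unity, and Thue's lemma makes `l` a sum of two squares once five is a square.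
-/

set_option autoImplicit false

namespace CfsgLib.DivRingFin

open Finset

universe u

/-- Numbers of the form `u² + l v²` are closed under products. -/
theorem norm_mul {R : Type u} [CommRing R] {l a b : R} (ha : ∃ u v, a = u ^ 2 + l * v ^ 2)
    (hb : ∃ u v, b = u ^ 2 + l * v ^ 2) : ∃ u v, a * b = u ^ 2 + l * v ^ 2 := by
  obtain ⟨u, v, rfl⟩ := ha
  obtain ⟨u', v', rfl⟩ := hb
  exact ⟨u * u' - l * (v * v'), u * v' + v * u', by ring⟩

/-- Additive characters turn sums into products. -/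
theorem map_sum_eq_prod' {A M : Type*} [AddCommMonoid A] [CommMonoid M] (ψ : AddChar A M) (t : Finset A) :
    ψ (t.sum id) = ∏ i ∈ t, ψ i := by
  classical
  induction t using Finset.induction_on with
  | empty => simp
  | insert a t ha ih => rw [sum_insert ha, prod_insert ha, AddChar.map_add_eq_mul, ih]; rfl

/-- The value at `x` of the geometric sum of length `l` is a norm from the quadratic field of `-l`. -/
theorem geom_norm {F : Type u} [Field F] [CharZero F] {l : ℕ} [Fact l.Prime] (hl4 : l % 4 = 3)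
    (x : F) (hx : x ≠ 1) : ∃ u v : F, ∑ i ∈ range l, x ^ i = u ^ 2 + (l : F) * v ^ 2 := by
  classical
  haveI : NeZero (l : AlgebraicClosure F) := ⟨Nat.cast_ne_zero.mpr (NeZero.ne l)⟩
  obtain ⟨η, hη⟩ := HasEnoughRootsOfUnity.exists_primitiveRoot (AlgebraicClosure F) l
  let L := AlgebraicClosure F
  let ψ : AddChar (ZMod l) L := AddChar.zmodChar l hη.pow_eq_one
  have hψ : ψ.IsPrimitive := AddChar.zmodChar_primitive_of_primitive_root l hη
  have hl2 : ringChar (ZMod l) ≠ 2 := by rw [ZMod.ringChar_zmod_n]; omega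
  let χ₀ : MulChar (ZMod l) ℤ := quadraticChar (ZMod l)
  let χ : MulChar (ZMod l) L := χ₀.ringHomComp (Int.castRingHom L)
  have hχval : ∀ a, χ a = ((χ₀ a : ℤ) : L) := fun a => rfl
  have hχq : χ.IsQuadratic := (quadraticChar_isQuadratic _).comp _
  have hχ1 : χ ≠ 1 := fun e => by
    obtain ⟨a, ha⟩ := quadraticChar_exists_neg_one hl2
    have ha0 : IsUnit a := isUnit_iff_ne_zero.mpr fun h => by rw [h] at ha; simp at ha
    have h1 := DFunLike.congr_fun e a
    rw [hχval, MulChar.one_apply ha0] at h1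
    rw [show χ₀ a = -1 from ha] at h1
    norm_num at h1
  have hneg : χ₀ (-1) = -1 := by
    show quadraticChar (ZMod l) (-1) = -1
    rw [quadraticChar_neg_one hl2, ZMod.card, ZMod.χ₄_nat_three_mod_four hl4]
  set g : L := gaussSum χ ψ with hg
  have hg2 : g ^ 2 = -(l : L) := by
    rw [hg, gaussSum_sq hχ1 hχq hψ, hχval, hneg, ZMod.card]
    push_cast
    ring
  -- the coefficient functions
  let Q : Finset (ZMod l) := univ.filter fun a => χ₀ a = 1
  let N : Finset (ZMod l) := univ.filter fun a => χ₀ a = -1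
  let e : Finset (ZMod l) → ZMod l → F := fun S a =>
    ∑ t ∈ S.powerset.filter (fun t => t.sum id = a), (-1) ^ t.card * x ^ (S.card - t.card)
  have hprod : ∀ S : Finset (ZMod l), ∏ a ∈ S, (algebraMap F L x - ψ a) =
      ∑ a, algebraMap F L (e S a) * ψ a := by
    intro S
    have h1 : ∏ a ∈ S, (algebraMap F L x - ψ a) = ∏ a ∈ S, (-ψ a + algebraMap F L x) :=
      prod_congr rfl fun a _ => by ring
    rw [h1, prod_add, ← sum_fiberwise S.powerset (fun t => t.sum id)]
    refine sum_congr rfl fun a _ => ?_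
    rw [map_sum, sum_mul]
    refine sum_congr rfl fun t ht => ?_
    rw [mem_filter, mem_powerset] at ht
    have h2 : ψ a = ∏ i ∈ t, ψ i := by
      rw [← ht.2]
      exact map_sum_eq_prod' ψ t
    rw [prod_neg, prod_const, card_sdiff_of_subset ht.1, h2, map_mul, map_pow, map_pow, map_neg, map_one]
    ring
  have hscale : ∀ (S : Finset (ZMod l)) (k a : ZMod l), k ≠ 0 →
      e (S.image (k * ·)) (k * a) = e S a := by
    intro S k a hk
    have hinj : Function.Injective (k * · : ZMod l → ZMod l) := mul_right_injective₀ hk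
    have hsum : ∀ t : Finset (ZMod l), (t.image (k * ·)).sum id = k * t.sum id := fun t => by
      rw [sum_image (fun _ _ _ _ h => hinj h), mul_sum]; rfl
    refine (sum_nbij (fun t => t.image (k * ·)) ?_ ?_ ?_ ?_).symm
    · intro t ht
      rw [mem_filter, mem_powerset] at ht ⊢
      exact ⟨image_subset_image ht.1, by rw [hsum, ht.2]⟩
    · exact fun t _ t' _ h => image_injective hinj h
    · intro T hT
      rw [mem_coe, mem_filter, mem_powerset] at hT
      obtain ⟨t, ht, rfl⟩ := subset_image_iff.mp hT.1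
      refine ⟨t, ?_, rfl⟩
      rw [mem_coe, mem_filter, mem_powerset]
      exact ⟨ht, mul_left_cancel₀ hk (by rw [← hsum]; exact hT.2)⟩
    · intro t _
      rw [card_image_of_injective _ hinj, card_image_of_injective _ hinj]
  have himgQ : ∀ k : ZMod l, χ₀ k = 1 → Q.image (k * ·) = Q := fun k hk => by
    have hk0 : k ≠ 0 := fun h => by rw [h, MulChar.map_zero] at hk; norm_num at hk
    ext a
    simp only [Q, mem_image, mem_filter, mem_univ, true_and]
    constructor
    · rintro ⟨b, hb, rfl⟩; rw [map_mul, hk, hb, one_mul]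
    · intro ha
      refine ⟨k⁻¹ * a, ?_, by rw [← mul_assoc, mul_inv_cancel₀ hk0, one_mul]⟩
      have h3 : χ₀ k * χ₀ k⁻¹ = 1 := by rw [← map_mul, mul_inv_cancel₀ hk0, map_one]
      rw [map_mul, ha, mul_one]
      rwa [hk, one_mul] at h3
  obtain ⟨b, hb⟩ := quadraticChar_exists_neg_one hl2
  change χ₀ b = -1 at hb
  have hb0 : b ≠ 0 := fun h => by rw [h, MulChar.map_zero] at hb; norm_num at hb
  have himgN : Q.image (b * ·) = N := by
    ext a
    simp only [Q, N, mem_image, mem_filter, mem_univ, true_and]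
    constructor
    · rintro ⟨c, hc, rfl⟩; rw [map_mul, hb, hc, mul_one]
    · intro ha
      refine ⟨b⁻¹ * a, ?_, by rw [← mul_assoc, mul_inv_cancel₀ hb0, one_mul]⟩
      have h3 : χ₀ b * χ₀ b⁻¹ = 1 := by rw [← map_mul, mul_inv_cancel₀ hb0, map_one]
      rw [hb] at h3
      rw [map_mul, ha]
      linarith
  -- the two conjugate halves
  set r : F := e Q 0 - (e Q 1 + e Q b) / 2 with hr
  set s : F := (e Q 1 - e Q b) / 2 with hs
  have hEQ : ∀ a : ZMod l, a ≠ 0 → e Q a = (e Q 1 + e Q b) / 2 + ((χ₀ a : ℤ) : F) * s := by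
    intro a ha
    rcases quadraticChar_dichotomy ha with h | h
    · have h1 := hscale Q a 1 ha
      rw [himgQ a h, mul_one] at h1
      rw [show χ₀ a = 1 from h, h1, hs]; push_cast; ring
    · have hk : χ₀ (a * b⁻¹) = 1 := by
        have h3 : χ₀ b * χ₀ b⁻¹ = 1 := by rw [← map_mul, mul_inv_cancel₀ hb0, map_one]
        rw [hb] at h3
        rw [map_mul, show χ₀ a = -1 from h]
        linarith
      have h1 := hscale Q (a * b⁻¹) b (mul_ne_zero ha (inv_ne_zero hb0))
      rw [himgQ _ hk, mul_assoc, inv_mul_cancel₀ hb0, mul_one] at h1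
      rw [show χ₀ a = -1 from h, h1, hs]; push_cast; ring
  have hEN : ∀ a : ZMod l, e N a = e Q (b⁻¹ * a) := fun a => by
    have h1 := hscale Q b (b⁻¹ * a) hb0
    rwa [himgN, ← mul_assoc, mul_inv_cancel₀ hb0, one_mul] at h1
  have hsum0 : ∑ a ∈ univ.erase (0 : ZMod l), ψ a = -1 := by
    have h := AddChar.sum_eq_zero_of_ne_one (show ψ ≠ 1 by simpa using hψ one_ne_zero)
    rw [← add_sum_erase univ _ (mem_univ (0 : ZMod l)), AddChar.map_zero_eq_one] at h
    linear_combination h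
  have heval : ∀ (f : ZMod l → F) (σ : F), f 0 = e Q 0 →
      (∀ a : ZMod l, a ≠ 0 → f a = (e Q 1 + e Q b) / 2 + ((χ₀ a : ℤ) : F) * σ) →
      ∑ a, algebraMap F L (f a) * ψ a = algebraMap F L r + algebraMap F L σ * g := by
    intro f σ h0 hf
    rw [← add_sum_erase univ _ (mem_univ (0 : ZMod l)), AddChar.map_zero_eq_one, mul_one, h0]
    have h1 : ∑ a ∈ univ.erase (0 : ZMod l), algebraMap F L (f a) * ψ a =
        algebraMap F L ((e Q 1 + e Q b) / 2) * ∑ a ∈ univ.erase (0 : ZMod l), ψ a +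
          algebraMap F L σ * ∑ a ∈ univ.erase (0 : ZMod l), χ a * ψ a := by
      rw [mul_sum, mul_sum, ← sum_add_distrib]
      refine sum_congr rfl fun a ha => ?_
      rw [hf a (ne_of_mem_erase ha), map_add, map_mul, map_intCast, hχval]
      ring
    rw [h1, hsum0, hg, gaussSum, hr, map_sub]
    rw [← add_sum_erase univ (fun a => χ a * ψ a) (mem_univ (0 : ZMod l))]
    rw [show χ (0 : ZMod l) = 0 from MulChar.map_zero χ]
    ring
  have hQ' : ∏ a ∈ Q, (algebraMap F L x - ψ a) = algebraMap F L r + algebraMap F L s * g := by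
    rw [hprod]
    exact heval _ _ rfl hEQ
  have hN' : ∏ a ∈ N, (algebraMap F L x - ψ a) = algebraMap F L r + algebraMap F L (-s) * g := by
    rw [hprod]
    refine heval _ _ (by rw [hEN, mul_zero]) fun a ha => ?_
    rw [hEN, hEQ _ (mul_ne_zero (inv_ne_zero hb0) ha)]
    have h3 : χ₀ b * χ₀ b⁻¹ = 1 := by rw [← map_mul, mul_inv_cancel₀ hb0, map_one]
    rw [hb] at h3
    have h4 : χ₀ (b⁻¹ * a) = -χ₀ a := by rw [map_mul, show χ₀ b⁻¹ = -1 by linarith]; ring
    rw [h4]; push_cast; ring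
  have hsplit : univ.erase (0 : ZMod l) = Q ∪ N := by
    ext a
    simp only [Q, N, mem_erase, mem_univ, and_true, mem_union, mem_filter, true_and]
    constructor
    · exact fun ha => quadraticChar_dichotomy ha
    · rintro (h | h) rfl <;> rw [MulChar.map_zero] at h <;> norm_num at h
  have hdisj : Disjoint Q N := by
    rw [disjoint_filter]
    intro a _ h1 h2
    rw [h1] at h2; norm_num at h2
  have hall : ∏ a : ZMod l, (algebraMap F L x - ψ a) = algebraMap F L x ^ l - 1 := by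
    have h := congrArg (Polynomial.eval (algebraMap F L x))
      (X_pow_sub_C_eq_prod hη (NeZero.pos l) (one_pow l : (1 : L) ^ l = 1))
    simp only [Polynomial.eval_sub, Polynomial.eval_pow, Polynomial.eval_X, Polynomial.eval_C,
      Polynomial.eval_prod, mul_one] at h
    rw [h]
    refine prod_nbij (fun a => a.val) (fun a _ => mem_range.mpr (ZMod.val_lt a))
      (fun a _ a' _ h => ZMod.val_injective l h)
      (fun i hi => ⟨(i : ZMod l), mem_coe.mpr (mem_univ _), ZMod.val_cast_of_lt (mem_range.mp hi)⟩)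
      fun a _ => ?_
    rw [AddChar.zmodChar_apply]
  rw [← mul_prod_erase univ _ (mem_univ (0 : ZMod l)), hsplit, prod_union hdisj, hQ', hN',
    AddChar.map_zero_eq_one] at hall
  refine ⟨r, s, (algebraMap F L).injective ?_⟩
  have hx' : algebraMap F L x - 1 ≠ 0 := by
    rw [sub_ne_zero]
    exact fun h => hx ((algebraMap F L).injective (by rw [h, map_one]))
  refine mul_right_cancel₀ hx' ?_
  rw [map_sum]
  simp only [map_pow, map_add, map_mul, map_natCast]
  rw [geom_sum_mul, ← hall, map_neg]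
  linear_combination (-(algebraMap F L s) ^ 2 * (algebraMap F L x - 1)) * hg2

/-- Minus one is of the form `u² + l v²`. -/
theorem neg_one_norm {F : Type u} [Field F] [CharZero F] {l p : ℕ} [Fact l.Prime] [Fact p.Prime]
    (hl4 : l % 4 = 3) (hp : p ≠ 2) (hnr : ¬ IsSquare ((l : ℕ) : ZMod p)) {ζ : F} (hζp : ζ ^ p = 1)
    (hζ1 : ζ ≠ 1) : ∃ u v : F, u ^ 2 + (l : F) * v ^ 2 = -1 := by
  have hl0 : ((l : ℕ) : ZMod p) ≠ 0 := fun h => hnr (by rw [h]; exact IsSquare.zero)
  have hpo : p % 2 = 1 := (Fact.out : p.Prime).eq_two_or_odd.resolve_left hp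
  have heuler : ((l : ℕ) : ZMod p) ^ (p / 2) = -1 := by
    rcases ZMod.pow_div_two_eq_neg_one_or_one p hl0 with h | h
    · exact absurd ((ZMod.euler_criterion p hl0).mpr h) hnr
    · exact h
  have hpow : ∀ n : ℕ, ζ ^ (l ^ n) ≠ 1 := fun n h => by
    have ho : orderOf ζ = p := orderOf_eq_prime hζp hζ1
    have hd := orderOf_dvd_of_pow_eq_one h
    rw [ho] at hd
    refine hl0 ((ZMod.natCast_eq_zero_iff _ _).mpr ((Fact.out : p.Prime).dvd_of_dvd_pow hd))
  have step : ∀ n : ℕ, ∃ a : F, (∃ u v, a = u ^ 2 + (l : F) * v ^ 2) ∧ a * (1 - ζ) = 1 - ζ ^ (l ^ n) := by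
    intro n
    induction n with
    | zero => exact ⟨1, ⟨1, 0, by ring⟩, by simp⟩
    | succ n ih =>
      obtain ⟨a, ha, e⟩ := ih
      refine ⟨_, norm_mul (geom_norm hl4 _ (hpow n)) ha, ?_⟩
      rw [mul_assoc, e, geom_sum_mul_neg, ← pow_mul, pow_succ]
  obtain ⟨a, ⟨u, v, ha⟩, e⟩ := step (p / 2)
  have hz : ζ ^ (l ^ (p / 2)) * ζ = 1 := by
    rw [← pow_succ]
    obtain ⟨m, hm⟩ := (ZMod.natCast_eq_zero_iff (l ^ (p / 2) + 1) p).mp (by push_cast; rw [heuler]; ring)
    rw [hm, pow_mul, hζp, one_pow]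
  have hak : a * ζ = -1 := by
    have h1 : (a * ζ + 1) * (1 - ζ) = 0 := by linear_combination ζ * e - hz
    rcases mul_eq_zero.mp h1 with h | h
    · linear_combination h
    · exact absurd (sub_eq_zero.mp h).symm hζ1
  refine ⟨u * ζ ^ ((p + 1) / 2), v * ζ ^ ((p + 1) / 2), ?_⟩
  have hs : (ζ ^ ((p + 1) / 2)) ^ 2 = ζ := by
    rw [← pow_mul, show (p + 1) / 2 * 2 = p + 1 by omega, pow_succ, hζp, one_mul]
  linear_combination hak + (u ^ 2 + (l : F) * v ^ 2) * hs - ζ * ha

/-- A quotient of sums of two squares is a sum of two squares. -/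
theorem sq_add_sq_div {F : Type u} [Field F] {x y a b : F} (h : a ^ 2 + b ^ 2 ≠ 0) :
    ∃ c d : F, (x ^ 2 + y ^ 2) / (a ^ 2 + b ^ 2) = c ^ 2 + d ^ 2 :=
  ⟨(x * a + y * b) / (a ^ 2 + b ^ 2), (x * b - y * a) / (a ^ 2 + b ^ 2), by field_simp; ring⟩

/-- Thue's lemma: `-5` being a square modulo `l`, a small multiple of `l` is `x² + 5 y²`. -/
theorem thue_five {l : ℕ} [Fact l.Prime] (h : IsSquare (-5 : ZMod l)) :
    ∃ x y : ℤ, ∃ k : ℕ, 0 < k ∧ k < 6 ∧ x ^ 2 + 5 * y ^ 2 = k * (l : ℤ) := by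
  classical
  obtain ⟨r, hr⟩ := h
  have hlp : l.Prime := Fact.out
  have hcard : Fintype.card (ZMod l) < Fintype.card (Fin (Nat.sqrt l + 1) × Fin (Nat.sqrt l + 1)) := by
    rw [Fintype.card_prod, Fintype.card_fin, ZMod.card]
    exact Nat.lt_succ_sqrt l
  obtain ⟨p, q, hpq, he⟩ := Fintype.exists_ne_map_eq_of_card_lt
    (fun w : Fin (Nat.sqrt l + 1) × Fin (Nat.sqrt l + 1) => ((w.1 : ℕ) : ZMod l) - r * ((w.2 : ℕ) : ZMod l)) hcard
  set x : ℤ := (p.1 : ℕ) - ((q.1 : ℕ) : ℤ) with hx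
  set y : ℤ := (p.2 : ℕ) - ((q.2 : ℕ) : ℤ) with hy
  have hxr : (x : ZMod l) = r * (y : ZMod l) := by
    rw [hx, hy]; push_cast; linear_combination he
  have hd : (l : ℤ) ∣ x ^ 2 + 5 * y ^ 2 := by
    rw [← ZMod.intCast_zmod_eq_zero_iff_dvd]
    push_cast
    linear_combination ((x : ZMod l) + r * (y : ZMod l)) * hxr - (y : ZMod l) ^ 2 * hr
  obtain ⟨k, hk⟩ := hd
  have hm : ((Nat.sqrt l : ℤ)) ^ 2 < l := by
    have h1 := Nat.sqrt_le' l
    have h2 : Nat.sqrt l ^ 2 ≠ l := fun e => Nat.Prime.not_prime_pow (le_refl 2) (e.symm ▸ hlp)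
    exact_mod_cast lt_of_le_of_ne h1 h2
  have bnd : ∀ u v : Fin (Nat.sqrt l + 1), (((u : ℕ) : ℤ) - ((v : ℕ) : ℤ)) ^ 2 ≤ (Nat.sqrt l : ℤ) ^ 2 := by
    intro u v
    have hu := u.isLt
    have hv := v.isLt
    refine sq_le_sq' ?_ ?_ <;> omega
  have hbx := bnd p.1 q.1
  have hby := bnd p.2 q.2
  rw [← hx] at hbx
  rw [← hy] at hby
  have hpos : 0 < x ^ 2 + 5 * y ^ 2 := by
    rcases eq_or_ne y 0 with hy0 | hy0
    · rcases eq_or_ne x 0 with hx0 | hx0
      · refine absurd (Prod.ext (Fin.ext ?_) (Fin.ext ?_)) hpq <;> omega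
      · have := sq_pos_of_ne_zero hx0; nlinarith [sq_nonneg y]
    · have := sq_pos_of_ne_zero hy0; nlinarith [sq_nonneg x]
  have hl0 : (0 : ℤ) < l := by exact_mod_cast hlp.pos
  have hk0 : 0 < k := by nlinarith
  have hk6 : k < 6 := by nlinarith
  exact ⟨x, y, k.toNat, by omega, by omega, by rw [hk, Int.toNat_of_nonneg hk0.le, mul_comm]⟩

/-- The auxiliary prime. -/
theorem aux_prime {p : ℕ} [Fact p.Prime] (hp : 7 ≤ p) :
    ∃ l : ℕ, l.Prime ∧ l % 4 = 3 ∧ l % 5 = 2 ∧ ¬ IsSquare ((l : ℕ) : ZMod p) := by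
  obtain ⟨a, ha⟩ := FiniteField.exists_nonsquare (F := ZMod p) (by rw [ZMod.ringChar_zmod_n]; omega)
  have hco : Nat.Coprime 20 p := by
    have hpp : p.Prime := Fact.out
    have h4 : Nat.Coprime 4 p := (Nat.coprime_primes Nat.prime_two hpp).mpr (by omega) |>.pow_left 2
    have h5 : Nat.Coprime 5 p := (Nat.coprime_primes Nat.prime_five hpp).mpr (by omega)
    exact h4.mul_left h5
  obtain ⟨b, hb1, hb2⟩ := Nat.chineseRemainder hco 7 a.val
  have hbc : b.Coprime (20 * p) := by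
    refine Nat.Coprime.mul_right ?_ ?_
    · rw [Nat.coprime_comm, Nat.Coprime, Nat.gcd_rec, show b % 20 = 7 from hb1]
      rfl
    · rw [Nat.coprime_comm, (Fact.out : p.Prime).coprime_iff_not_dvd, ← ZMod.natCast_eq_zero_iff]
      rw [(ZMod.natCast_eq_natCast_iff b a.val p).mpr hb2, ZMod.natCast_zmod_val]
      exact fun h => ha (h ▸ IsSquare.zero)
  obtain ⟨l, hl1, hl, hl2⟩ := Nat.forall_exists_prime_gt_and_modEq 0 (show 20 * p ≠ 0 by omega) hbc
  have h20 : l % 20 = 7 := (Nat.ModEq.trans (hl2.of_mul_right p) hb1 : l ≡ 7 [MOD 20])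
  refine ⟨l, hl, by omega, by omega, ?_⟩
  have h1 : l ≡ a.val [MOD p] := Nat.ModEq.trans (hl2.of_mul_left 20) hb2
  rwa [(ZMod.natCast_eq_natCast_iff l a.val p).mpr h1, ZMod.natCast_zmod_val]

theorem two_nonsquare_five : ∀ c : ZMod 5, ((2 : ℕ) : ZMod 5) ≠ c * c := by decide

/-- Minus one is a sum of three squares. -/
theorem three_squares {F : Type u} [Field F] [CharZero F] {p : ℕ} [Fact p.Prime] (hp : 7 ≤ p) {s ζ : F}
    (hs : s ^ 2 = 5) (hζp : ζ ^ p = 1) (hζ1 : ζ ≠ 1) : ∃ u v w : F, u ^ 2 + v ^ 2 + w ^ 2 = -1 := by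
  obtain ⟨l, hl, hl4, hl5, hnr⟩ := aux_prime (p := p) hp
  haveI := Fact.mk hl
  haveI := Fact.mk Nat.prime_five
  have hsq : IsSquare (-5 : ZMod l) := by
    have h5 : ¬ IsSquare ((5 : ℕ) : ZMod l) := by
      rw [← ZMod.exists_sq_eq_prime_iff_of_mod_four_eq_one (p := 5) (q := l) (by norm_num) (by omega),
        ← ZMod.natCast_mod, hl5]
      rintro ⟨c, hc⟩
      exact two_nonsquare_five c hc
    have hm1 : ¬ IsSquare (-1 : ZMod l) := by
      rw [ZMod.exists_sq_eq_neg_one_iff]; omega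
    have hl2 : ringChar (ZMod l) ≠ 2 := by rw [ZMod.ringChar_zmod_n]; omega
    have h50 : ((5 : ℕ) : ZMod l) ≠ 0 := fun h => h5 (by rw [h]; exact IsSquare.zero)
    have h5' : quadraticChar (ZMod l) ((5 : ℕ) : ZMod l) = -1 := (quadraticChar_neg_one_iff_not_isSquare).mpr h5
    have h1' : quadraticChar (ZMod l) (-1) = -1 := (quadraticChar_neg_one_iff_not_isSquare).mpr hm1
    have hne : (-1 : ZMod l) * ((5 : ℕ) : ZMod l) ≠ 0 := mul_ne_zero (neg_ne_zero.mpr one_ne_zero) h50
    have h := (quadraticChar_one_iff_isSquare hne).mp (by rw [map_mul, h5', h1']; norm_num)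
    simpa using h
  obtain ⟨x, y, k, hk0, hk6, hk⟩ := thue_five hsq
  obtain ⟨a, b, hab⟩ : ∃ a b : F, (k : F) = a ^ 2 + b ^ 2 := by
    interval_cases k
    · exact ⟨1, 0, by norm_num⟩
    · exact ⟨1, 1, by norm_num⟩
    · refine ⟨(1 + s) / 2, (1 - s) / 2, ?_⟩
      push_cast
      linear_combination (-(1 / 2 : F)) * hs
    · exact ⟨2, 0, by norm_num⟩
    · exact ⟨2, 1, by norm_num⟩
  have hk' : (k : F) ≠ 0 := Nat.cast_ne_zero.mpr (by omega)
  obtain ⟨c, d, hcd⟩ := sq_add_sq_div (x := (x : F)) (y := s * (y : F)) (a := a) (b := b) (hab ▸ hk')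
  obtain ⟨u, v, huv⟩ := neg_one_norm hl4 (by omega) hnr hζp hζ1
  refine ⟨u, v * c, v * d, ?_⟩
  have hl' : (l : F) = c ^ 2 + d ^ 2 := by
    rw [← hcd, ← hab, eq_div_iff hk']
    have h' := congrArg (fun t : ℤ => (t : F)) hk
    push_cast at h'
    linear_combination -h' - (y : F) ^ 2 * hs
  linear_combination huv - v ^ 2 * hl'

end CfsgLib.DivRingFin
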