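import Cfsg.Agent.Lib.DivRing.Arith

/-!
Two obstructions to finite subgroups of division rings: an element of order five inverted by a square
root of minus one commutes with no root of unity of prime order at least seven, and an element of order
five is not mapped to its square by an element whose fourth power is minus one.
-/

set_option autoImplicit false

namespace CfsgLib.DivRingFin

universe u

variable {D : Type u} [DivisionRing D]

theorem phi_five {z : D} (h5 : z ^ 5 = 1) (h1 : z ≠ 1) : z ^ 4 + z ^ 3 + z ^ 2 + z + 1 = 0 := by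
  have h : (z - 1) * (z ^ 4 + z ^ 3 + z ^ 2 + z + 1) = 0 := by
    rw [← sub_eq_zero.mpr h5]
    noncomm_ring
  exact (mul_eq_zero.mp h).resolve_left (sub_ne_zero.mpr h1)

/-- Identities among sums of powers of an element of order five. -/
theorem five_idents {z : D} (hΦ : z ^ 4 + z ^ 3 + z ^ 2 + z + 1 = 0) :
    (z + z ^ 4) ^ 2 + (z + z ^ 4) = 1 ∧ (z - z ^ 4) * (z - z ^ 4) = -(3 + (z + z ^ 4)) ∧
      (z - z ^ 2 - z ^ 3 + z ^ 4) * (z - z ^ 2 - z ^ 3 + z ^ 4) = 5 ∧
      (z - z ^ 4) * (z - z ^ 4) + (z ^ 2 - z ^ 3) * (z ^ 2 - z ^ 3) = -5 := by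
  letI := Subring.closureCommRingOfComm (s := ({z} : Set D)) (by rintro a rfl b rfl; rfl)
  let w : Subring.closure ({z} : Set D) := ⟨z, Subring.subset_closure rfl⟩
  have hw : w ^ 4 + w ^ 3 + w ^ 2 + w + 1 = 0 := Subtype.ext (by simpa [w] using hΦ)
  have h1 : (w + w ^ 4) ^ 2 + (w + w ^ 4) = 1 := by linear_combination (-1 + 2 * w - w ^ 3 + w ^ 4) * hw
  have h2 : (w - w ^ 4) * (w - w ^ 4) = -(3 + (w + w ^ 4)) := by
    linear_combination (3 - 2 * w - w ^ 3 + w ^ 4) * hw
  have h3 : (w - w ^ 2 - w ^ 3 + w ^ 4) * (w - w ^ 2 - w ^ 3 + w ^ 4) = 5 := by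
    linear_combination (-5 + 5 * w + w ^ 2 - 3 * w ^ 3 + w ^ 4) * hw
  have h4 : (w - w ^ 4) * (w - w ^ 4) + (w ^ 2 - w ^ 3) * (w ^ 2 - w ^ 3) = -5 := by
    linear_combination (5 - 5 * w + w ^ 2 - w ^ 3 + w ^ 4) * hw
  exact ⟨congrArg Subtype.val h1, congrArg Subtype.val h2, congrArg Subtype.val h3, congrArg Subtype.val h4⟩

theorem red_five {z : D} (h5 : z ^ 5 = 1) (k : ℕ) : z ^ (k + 5) = z ^ k := by
  rw [pow_add, h5, mul_one]

/-- The centralizer of a set, as a division subring. -/
def centField (T : Set D) : Subfield D where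
  __ := Subring.centralizer T
  inv_mem' := fun _ hx => Subring.mem_centralizer_iff.mpr fun g hg =>
    (Commute.inv_right₀ (Subring.mem_centralizer_iff.mp hx g hg : Commute g _)).eq

theorem mem_centField {T : Set D} {x : D} : x ∈ centField T ↔ ∀ g ∈ T, g * x = x * g :=
  Subring.mem_centralizer_iff

/-- In a commutative subfield, commuting with a quaternion pair. -/
theorem no_zero_norm {u j a b c d : D} (hu : u * j = -(j * u)) (hj : j * j = -1) (hu0 : u ≠ 0) [NeZero (2 : D)]
    (ha : Commute a u ∧ Commute a j) (hb : Commute b u ∧ Commute b j) (hc : Commute c u ∧ Commute c j)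
    (hd : Commute d u ∧ Commute d j)
    (hab : Commute a b) (hac : Commute a c) (had : Commute a d) (hbc : Commute b c) (hbd : Commute b d)
    (hcd : Commute c d) (h : (a + b * u) * (a - b * u) + (c + d * u) * (c - d * u) = 0) :
    a + b * u = 0 ∧ c + d * u = 0 := by
  have key : ∀ x y : D, Commute x u → Commute y u → Commute x j → Commute y j →
      j * (x + y * u) = (x - y * u) * j := fun x y _ _ hxj hyj => by
    rw [mul_add, sub_mul, ← hxj.eq, ← mul_assoc, ← hyj.eq, mul_assoc, mul_assoc, hu, mul_neg, sub_neg_eq_add]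
  have keym : ∀ x y : D, Commute x u → Commute y u → Commute x j → Commute y j →
      j * (x - y * u) = (x + y * u) * j := fun x y hxu hyu hxj hyj => by
    have := key x (-y) hxu hyu.neg_left hxj hyj.neg_left
    simpa [sub_eq_add_neg] using this
  set X := a + b * u with hX
  set Y := c + d * u with hY
  set X' := a - b * u with hX'
  set Y' := c - d * u with hY'
  have c1 : ∀ y : D, Commute y u → Commute (y * u) u := fun y hy => hy.mul_left (Commute.refl u)
  have hXY : Commute X Y :=
    ((hac.add_right (had.mul_right ha.1)).add_left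
      (((hbc.add_right (hbd.mul_right hb.1))).mul_left
        ((hc.1.symm).add_right (hd.1.symm.mul_right (Commute.refl u)))))
  have hq : (X + Y * j) * (X' - Y * j) = 0 := by
    have e1 : j * X' = X * j := keym a b ha.1 hb.1 ha.2 hb.2
    have e2 : j * Y = Y' * j := key c d hc.1 hd.1 hc.2 hd.2
    calc (X + Y * j) * (X' - Y * j) = X * X' - X * Y * j + Y * (j * X') - Y * (j * Y) * j := by noncomm_ring
      _ = X * X' - X * Y * j + Y * (X * j) - Y * (Y' * j) * j := by rw [e1, e2]
      _ = X * X' - X * Y * j + Y * X * j - Y * Y' * (j * j) := by noncomm_ring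
      _ = 0 := by rw [hj, hXY.eq]; linear_combination (norm := noncomm_ring) h
  have two : (2 : D) ≠ 0 := two_ne_zero
  have indep : ∀ x y : D, Commute x j → Commute y j → x + y * u = 0 → x = 0 ∧ y = 0 := by
    intro x y hxj hyj e
    by_cases hy : y = 0
    · exact ⟨by simpa [hy] using e, hy⟩
    · exfalso
      have hu' : u = -(y⁻¹ * x) := by
        rw [eq_neg_iff_add_eq_zero]
        calc u + y⁻¹ * x = y⁻¹ * (x + y * u) := by rw [mul_add, inv_mul_cancel_left₀ hy, add_comm]
          _ = 0 := by rw [e, mul_zero]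
      have hcu : Commute u j := by rw [hu']; exact (hyj.inv_left₀.mul_left hxj).neg_left
      have h2 : (2 : D) * (j * u) = 0 := by
        rw [two_mul]; nth_rw 1 [← hcu.eq]; rw [hu, neg_add_cancel]
      rcases mul_eq_zero.mp h2 with h' | h'
      · exact two h'
      · rcases mul_eq_zero.mp h' with h'' | h''
        · rw [h'', mul_zero] at hj; simp at hj
        · exact hu0 h''
  have lin : ∀ A B : D, Commute A u → Commute B u → A + B * j = 0 → A = 0 ∧ B = 0 := by
    intro A B hA hB e
    by_cases hB0 : B = 0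
    · exact ⟨by simpa [hB0] using e, hB0⟩
    · exfalso
      have hj' : j = -(B⁻¹ * A) := by
        rw [eq_neg_iff_add_eq_zero]
        calc j + B⁻¹ * A = B⁻¹ * (A + B * j) := by rw [mul_add, inv_mul_cancel_left₀ hB0, add_comm]
          _ = 0 := by rw [e, mul_zero]
      have hcu : Commute j u := by rw [hj']; exact (hB.inv_left₀.mul_left hA).neg_left
      have h2 : (2 : D) * (j * u) = 0 := by
        rw [two_mul]; nth_rw 1 [hcu.eq]; rw [hu, neg_add_cancel]
      rcases mul_eq_zero.mp h2 with h' | h'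
      · exact two h'
      · rcases mul_eq_zero.mp h' with h'' | h''
        · rw [h'', mul_zero] at hj; simp at hj
        · exact hu0 h''
  rcases mul_eq_zero.mp hq with hq | hq
  · exact lin X Y (ha.1.add_left (c1 b hb.1)) (hc.1.add_left (c1 d hd.1)) hq
  · obtain ⟨h1, h2⟩ := lin X' (-Y) (ha.1.sub_left (c1 b hb.1)) (hc.1.add_left (c1 d hd.1)).neg_left
      (by rw [neg_mul, ← sub_eq_add_neg]; exact hq)
    have h3 := indep a (-b) ha.2 hb.2.neg_left (by rw [neg_mul, ← sub_eq_add_neg]; exact h1)
    exact ⟨by rw [hX, h3.1, neg_eq_zero.mp h3.2]; simp, neg_eq_zero.mp h2⟩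

/-- An element of order five inverted by a square root of minus one commutes with no root of unity of
prime order at least seven. -/
theorem no_coprime_root [CharZero D] {z j ζ : D} (h5 : z ^ 5 = 1) (h1 : z ≠ 1) (hjz : j * z = z ^ 4 * j)
    (hj : j * j = -1) {p : ℕ} [Fact p.Prime] (hp : 7 ≤ p) (hζp : ζ ^ p = 1) (hζ1 : ζ ≠ 1)
    (hcz : Commute ζ z) (hcj : Commute ζ j) : False := by
  classical
  set c : D := z + z ^ 4 with hc
  set u : D := z - z ^ 4 with hu
  have hΦ := phi_five h5 h1
  have hjz4 : j * z ^ 4 = z * j := by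
    have hsc : ∀ n : ℕ, j * z ^ n = (z ^ 4) ^ n * j := fun n => by
      induction n with
      | zero => simp
      | succ n ih => rw [pow_succ, ← mul_assoc, ih, mul_assoc, hjz, ← mul_assoc, ← pow_succ]
    rw [hsc, ← pow_mul, show 4 * 4 = 1 + 5 + 5 + 5 from rfl, red_five h5, red_five h5, red_five h5, pow_one]
  have hjc : Commute j c := by
    show j * c = c * j
    rw [hc, mul_add, hjz, hjz4, add_mul, add_comm]
  have huj : u * j = -(j * u) := by rw [hu, mul_sub, hjz, hjz4, sub_mul, neg_sub]
  have hzc : Commute z c := (Commute.refl z).add_right ((Commute.refl z).pow_right 4)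
  let T : Set D := {c, ζ}
  let Z : Subfield D := centField (centField T : Set D)
  have hzT : z ∈ centField T := mem_centField.mpr (by
    rintro g (rfl | rfl)
    · exact hzc.symm.eq
    · exact hcz.eq)
  have hjT : j ∈ centField T := mem_centField.mpr (by
    rintro g (rfl | rfl)
    · exact hjc.symm.eq
    · exact hcj.eq)
  have huT : u ∈ centField T := (centField T).sub_mem hzT ((centField T).pow_mem hzT 4)
  have hTT : T ⊆ (centField T : Set D) := by
    have hcζ : Commute c ζ := (hcz.symm.add_left (hcz.symm.pow_left 4))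
    rintro x (rfl | rfl) <;> refine mem_centField.mpr ?_ <;> rintro g (rfl | rfl)
    exacts [rfl, hcζ.symm.eq, hcζ.eq, rfl]
  have hTZ : ∀ x ∈ T, x ∈ Z := fun x hx => mem_centField.mpr fun g hg => (mem_centField.mp hg x hx).symm
  have hcomm : ∀ x y : Z, x * y = y * x := fun x y => Subtype.ext (by
    have hy : (y : D) ∈ centField T := mem_centField.mpr fun g hg => mem_centField.mp y.2 g (hTT hg)
    exact (mem_centField.mp x.2 y hy).symm)
  letI : Field Z := { (inferInstance : DivisionRing Z) with mul_comm := hcomm }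
  haveI : CharZero Z := ⟨fun a b h => Nat.cast_injective (R := D) (by
    have h' := congrArg (fun w : Z => (w : D)) h
    simpa using h')⟩
  have hc2 : c ^ 2 + c = 1 := (five_idents hΦ).1
  let C : Z := ⟨c, hTZ c (by simp [T])⟩
  let W : Z := ⟨ζ, hTZ ζ (by simp [T])⟩
  have hC : C ^ 2 + C = 1 := Subtype.ext (by simpa [C] using hc2)
  obtain ⟨x, y, w, he⟩ := three_squares (F := Z) hp (s := 2 * C + 1) (ζ := W)
    (by linear_combination (4 : Z) * hC) (Subtype.ext (by simpa [W] using hζp))
    (fun e => hζ1 (congrArg Subtype.val e))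
  have hα : (1 : Z) ^ 2 + (1 + C) ^ 2 ≠ 0 := fun e => by
    have h3 : C = -3 := by linear_combination e - hC
    rw [h3] at hC
    norm_num at hC
  set B : Z := (y + (1 + C) * w) / ((1 : Z) ^ 2 + (1 + C) ^ 2) with hB
  set E : Z := (w - (1 + C) * y) / ((1 : Z) ^ 2 + (1 + C) ^ 2) with hE
  have hrel : (1 : Z) + (3 + C) * B ^ 2 + (x ^ 2 + (3 + C) * E ^ 2) = 0 := by
    have h3 : (3 : Z) + C = 1 ^ 2 + (1 + C) ^ 2 := by linear_combination -hC
    have h4 : (3 + C) * (B ^ 2 + E ^ 2) = y ^ 2 + w ^ 2 := by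
      rw [h3, hB, hE]
      generalize hd : (1 : Z) ^ 2 + (1 + C) ^ 2 = d at hα
      field_simp
      rw [← hd]
      ring
    linear_combination he + h4
  have hu2 : u * u = -(3 + c) := (five_idents hΦ).2.1
  have cz : ∀ (t : Z) (g : D), g ∈ centField T → Commute (t : D) g := fun t g hg =>
    (mem_centField.mp t.2 g hg).symm
  have cZ : ∀ s t : Z, Commute (s : D) (t : D) := fun s t => congrArg Subtype.val (hcomm s t)
  have expand : ∀ s t : Z, ((s : D) + (t : D) * u) * ((s : D) - (t : D) * u) = ((s ^ 2 + (3 + C) * t ^ 2 : Z) : D) := by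
    intro s t
    have e1 : Commute (s : D) ((t : D) * u) := (cZ s t).mul_right (cz s u huT)
    rw [← e1.mul_self_sub_mul_self_eq, (cz t u huT).symm.mul_mul_mul_comm, hu2]
    push_cast
    have e3 : ((3 + C : Z) : D) = 3 + c := rfl
    have e2 : Commute ((t : D) * t) (3 + c) := e3 ▸ (cZ t (3 + C)).mul_left (cZ t (3 + C))
    rw [mul_neg, sub_neg_eq_add, e2.eq, pow_two, pow_two]
    rfl
  have hu0 : u ≠ 0 := by
    intro e
    have : z = z ^ 4 := sub_eq_zero.mp e
    have h3 : z ^ 3 = 1 := mul_left_cancel₀ (show z ≠ 0 by rintro rfl; simp at h5) (by rw [mul_one, ← pow_succ', ← this])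
    exact h1 (by rw [← pow_one z]; calc z ^ 1 = z ^ (3 * 2) := by rw [show 3 * 2 = 1 + 5 from rfl, red_five h5]
                                        _ = z ^ 0 := by rw [pow_mul, h3, one_pow, pow_zero]
                                        _ = _ := by rw [pow_zero])
  have hfin := no_zero_norm (a := ((1 : Z) : D)) (b := (B : D)) (c := (x : D)) (d := (E : D)) huj hj hu0
    ⟨cz _ u huT, cz _ j hjT⟩ ⟨cz _ u huT, cz _ j hjT⟩ ⟨cz _ u huT, cz _ j hjT⟩ ⟨cz _ u huT, cz _ j hjT⟩
    (cZ _ _) (cZ _ _) (cZ _ _) (cZ _ _) (cZ _ _) (cZ _ _)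
    (by rw [expand, expand, ← Subfield.coe_add, one_pow, hrel]; rfl)
  have e1 : (1 : D) + (B : D) * u = 0 := by simpa using hfin.1
  have cj : Commute ((B : D) * u) j := by
    rw [show (B : D) * u = -1 from eq_neg_of_add_eq_zero_right e1]; exact (Commute.one_left j).neg_left
  have h2 : (2 : D) * ((B : D) * (j * u)) = 0 := by
    have e := cj.eq
    rw [mul_assoc, huj, ← mul_assoc, ← (cz B j hjT).eq, mul_assoc, mul_neg] at e
    rw [two_mul]
    nth_rw 1 [← e]
    exact neg_add_cancel _
  have hB0 : (B : D) ≠ 0 := fun e => by simp [e] at e1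
  rcases mul_eq_zero.mp h2 with h | h
  · exact two_ne_zero h
  · rcases mul_eq_zero.mp ((mul_eq_zero.mp h).resolve_left hB0) with h' | h'
    · simp [h'] at hj
    · exact hu0 h'

/-- An element of order five is not mapped to its square by an element whose fourth power is minus one. -/
theorem no_outer [CharZero D] {z g : D} (h5 : z ^ 5 = 1) (h1 : z ≠ 1) (hgz : g * z = z ^ 2 * g)
    (hg : g ^ 4 = -1) : False := by
  classical
  have hΦ := phi_five h5 h1
  have hpow : ∀ n : ℕ, g * z ^ n = z ^ (2 * n) * g := fun n => by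
    induction n with
    | zero => simp
    | succ n ih => rw [pow_succ, ← mul_assoc, ih, mul_assoc, hgz, ← mul_assoc, ← pow_add, Nat.mul_succ]
  have r6 : z ^ 6 = z := by simpa using red_five h5 1
  have r8 : z ^ 8 = z ^ 3 := red_five h5 3
  have e1 : g * z ^ 1 = z ^ 2 * g := hpow 1
  have e2 : g * z ^ 2 = z ^ 4 * g := hpow 2
  have e3 : g * z ^ 3 = z * g := by rw [hpow 3]; norm_num [r6]
  have e4 : g * z ^ 4 = z ^ 3 * g := by rw [hpow 4]; norm_num [r8]
  rw [pow_one] at e1
  set h : D := g * g with hh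
  set u₁ : D := z - z ^ 4 with hu1
  set u₂ : D := z ^ 2 - z ^ 3 with hu2
  set s : D := z - z ^ 2 - z ^ 3 + z ^ 4 with hs
  set t : D := g - h * g with ht
  have hh2 : h * h = -1 := by rw [hh, ← hg]; noncomm_ring
  have hghg : g * h = h * g := by rw [hh, mul_assoc]
  have gu1 : g * u₁ = u₂ * g := by rw [hu1, mul_sub, e1, e4, hu2, sub_mul]
  have gu2 : g * u₂ = -(u₁ * g) := by rw [hu2, mul_sub, e2, e3, hu1, sub_mul, neg_sub]
  have gs : g * s = -(s * g) := by
    rw [hs, mul_add, mul_sub, mul_sub, e1, e2, e3, e4]; noncomm_ring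
  have hu1h : h * u₁ = -(u₁ * h) := by rw [hh, mul_assoc, gu1, ← mul_assoc, gu2, neg_mul, mul_assoc]
  have hu2h : h * u₂ = -(u₂ * h) := by
    rw [hh, mul_assoc, gu2, mul_neg, ← mul_assoc, gu1, mul_assoc]
  have hsh : h * s = s * h := by rw [hh, mul_assoc, gs, mul_neg, ← mul_assoc, gs, neg_mul, neg_neg, mul_assoc]
  have cz : ∀ a b : ℕ, z ^ a * z ^ b = z ^ (a + b) := fun a b => (pow_add z a b).symm
  have u12 : Commute u₁ u₂ := (((Commute.refl z).pow_right 2).sub_right ((Commute.refl z).pow_right 3)).sub_left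
      ((Commute.pow_pow (Commute.refl z) 4 2).sub_right (Commute.pow_pow (Commute.refl z) 4 3))
  have czs : Commute z s :=
    (((Commute.refl z).sub_right ((Commute.refl z).pow_right 2)).sub_right ((Commute.refl z).pow_right 3)).add_right
      ((Commute.refl z).pow_right 4)
  have su1 : Commute u₁ s := czs.sub_left (czs.pow_left 4)
  have su2 : Commute u₂ s := (czs.pow_left 2).sub_left (czs.pow_left 3)
  have hs2 : s * s = 5 := (five_idents hΦ).2.2.1
  have huu : u₁ * u₁ + u₂ * u₂ = -5 := (five_idents hΦ).2.2.2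
  set U : D := u₁ + u₂ * h with hU
  set W : D := s + s * t with hW
  have hUh : h * U = -(U * h) := by
    rw [hU, mul_add, ← mul_assoc, hu1h, hu2h]; noncomm_ring
  have hU2 : U * U = -5 := by
    calc U * U = u₁ * u₁ + u₁ * u₂ * h + u₂ * (h * u₁) + u₂ * (h * u₂) * h := by rw [hU]; noncomm_ring
      _ = u₁ * u₁ + u₁ * u₂ * h - u₂ * u₁ * h - u₂ * u₂ * (h * h) := by rw [hu1h, hu2h]; noncomm_ring
      _ = u₁ * u₁ + u₂ * u₂ := by rw [u12.eq, hh2]; noncomm_ring
      _ = -5 := huu
  have hth : t * h = h * t := by rw [ht, sub_mul, mul_sub, mul_assoc, hghg]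
  have hst : t * s = -(s * t) := by
    rw [ht, sub_mul, mul_sub, gs, mul_assoc, gs, mul_neg, ← mul_assoc, hsh, mul_assoc]; noncomm_ring
  have hgg : g * g = h := hh.symm
  have htt : t * t = 2 := by
    calc t * t = g * g - (g * h) * g - h * (g * g) + h * (g * h) * g := by rw [ht]; noncomm_ring
      _ = h - h * (g * g) - h * h + h * h * (g * g) := by rw [hghg, hgg]; noncomm_ring
      _ = 2 := by rw [hgg, hh2]; noncomm_ring; norm_num
  have hW2 : W * W = -5 := by
    calc W * W = s * s + s * s * t + s * (t * s) + s * (t * s) * t := by rw [hW]; noncomm_ring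
      _ = s * s - s * s * (t * t) := by rw [hst]; noncomm_ring
      _ = -5 := by rw [htt, hs2]; norm_num
  have hUs : Commute U s := by
    refine su1.add_left ?_
    show u₂ * h * s = s * (u₂ * h)
    rw [mul_assoc, hsh, ← mul_assoc, su2.eq, mul_assoc]
  have hUt : Commute U t := by
    show U * t = t * U
    calc U * t = (u₁ - u₁ * h + u₂ * h - u₂ * (h * h)) * g := by rw [hU, ht]; noncomm_ring
      _ = (u₁ - u₁ * h + u₂ * h + u₂) * g := by rw [hh2]; noncomm_ring
      _ = (u₂ - u₁ * h - h * u₂ + h * u₁ * h) * g := by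
          rw [hu1h, hu2h]; linear_combination (norm := noncomm_ring) congrArg (fun a => u₁ * a * g) hh2
      _ = (1 - h) * (u₂ * g - u₁ * (h * g)) := by noncomm_ring
      _ = (1 - h) * (g * u₁ + g * u₂ * h) := by
          rw [gu1, gu2, ← hghg]; noncomm_ring
      _ = t * U := by rw [ht, hU]; noncomm_ring
  have hUW : Commute U W := hUs.add_right (hUs.mul_right hUt)
  have hWh : h * W = W * h := Commute.add_right hsh (Commute.mul_right hsh hth.symm)
  have hUU : U * h = h * U := by
    rcases hUW.mul_self_eq_mul_self_iff.mp (hU2.trans hW2.symm) with e | e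
    · rw [e]; exact hWh.symm
    · rw [e, neg_mul, mul_neg, hWh]
  have h20 : (2 : D) * (U * h) = 0 := by
    rw [two_mul]; nth_rw 1 [hUU]; rw [hUh, neg_add_cancel]
  rcases mul_eq_zero.mp h20 with e | e
  · exact two_ne_zero e
  rcases mul_eq_zero.mp e with e' | e'
  · rw [e', mul_zero] at hU2
    norm_num at hU2
  · rw [e', mul_zero] at hh2
    norm_num at hh2

end CfsgLib.DivRingFin
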